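import Cfsg.Agent.H273.EB.Mathieu
import Cfsg.Agent.H694.EB.Nilp
import Cfsg.Agent.S2061
import Cfsg.Agent.Schreier.MTwelve
import Cfsg.Agent.Schreier.MTwelve

/-!
# TEAM EB: row M12 (helper273)

* `mem_of_two_trans` : the constituents of a 2-transitive permutation character of even degree are in the principal
  2-block.
* `concl_twelve` : `M12` normal of 2-power index.
-/

set_option autoImplicit false
set_option linter.unusedSectionVars false
set_option linter.style.haveILetI false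

open Cfsg

namespace Cfsg.Agent.H273.EB

open Cfsg.Agent.Characters.Core
open Cfsg.Agent.H610.EB Cfsg.Agent.H694 Cfsg.Agent.H684.EB Cfsg.Agent.H852.IMMathieu
open scoped ComplexConjugate

universe u v

section two

variable {S : Type u} [Group S] [Fintype S] {X : Type v} [MulAction S X]

theorem cn_smul (g t : S) (x y : X) : H694.EB.cn g (t • x) (t • y) = H694.EB.cn g x y := by
  unfold H694.EB.cn
  refine Nat.card_congr
    { toFun := fun h => ⟨t⁻¹ * h.1 * t, ?_, ?_⟩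
      invFun := fun h => ⟨t * h.1 * t⁻¹, ?_, ?_⟩
      left_inv := fun h => ?_
      right_inv := fun h => ?_ }
  · exact h.2.1.trans (isConj_iff.2 ⟨t⁻¹, by rw [inv_inv]⟩)
  · rw [mul_smul, mul_smul, h.2.2, inv_smul_smul]
  · exact h.2.1.trans (isConj_iff.2 ⟨t, rfl⟩)
  · rw [mul_smul, mul_smul, inv_smul_smul, h.2.2]
  · exact Subtype.ext (by group)
  · exact Subtype.ext (by group)

/-- column sums -/
theorem sum_cn [Fintype X] (g : S) (y : X) :
    ∑ x : X, H694.EB.cn g x y = (Subgroup.centralizer ({g} : Set S)).index := by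
  classical
  unfold H694.EB.cn
  rw [← Nat.card_sigma, Blocks.Basic.index_centralizer_eq_ncard, ← Nat.card_coe_set_eq]
  refine Nat.card_congr
    { toFun := fun p => ⟨p.2.1, p.2.2.1⟩
      invFun := fun h => ⟨h.1 • y, h.1, h.2, rfl⟩
      left_inv := ?_
      right_inv := fun h => rfl }
  rintro ⟨x, h, h1, rfl⟩
  rfl

/-- **Constituents of a 2-transitive permutation character of even degree.** -/
theorem mem_of_two_trans [Finite X] {M : Ideal AlgInt} (hM : IsPModular 2 M)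
    (h2 : MulAction.IsMultiplyPretransitive S X 2) (hX : 2 ≤ Nat.card X) (heven : Even (Nat.card X))
    (χ : IrrCharacter S) (hχ : classInner (permC S X) (χ : S → ℂ) ≠ 0) : χ ∈ principalBlock M S := by
  classical
  haveI := Fintype.ofFinite X
  refine H694.EB.mem_principalBlock (X := X) hM χ ?_ ?_
  · intro h0
    apply hχ
    rw [classInner]
    have h1 : ∑ g : S, permC S X g * conj ((χ : S → ℂ) g) =
        ∑ h : S, (Nat.card {x : X // h • x = x} : ℂ) * (χ : S → ℂ) h⁻¹ := by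
      refine Finset.sum_congr rfl fun g _ => ?_
      rw [isCharacter_apply_inv (isIrr_isCharacter χ.2)]
      rfl
    rw [h1, h0, mul_zero]
  · intro g _
    have h1 : 1 < Fintype.card X := by
      rw [← Nat.card_eq_fintype_card]
      omega
    obtain ⟨x₀, y₀, hxy₀⟩ := Fintype.exists_pair_of_one_lt_card h1
    set c := H694.EB.cn g x₀ y₀ with hc
    have hoff : ∀ x y : X, x ≠ y → H694.EB.cn g x y = c := by
      intro x y hxy
      obtain ⟨t, ht1, ht2⟩ := MulAction.is_two_pretransitive_iff.1 h2 hxy₀ hxy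
      rw [← ht1, ← ht2, cn_smul]
    have hdiag : ∀ y : X, H694.EB.cn g y y + (Fintype.card X - 1) * c =
        (Subgroup.centralizer ({g} : Set S)).index := by
      intro y
      rw [← sum_cn g y, ← Finset.add_sum_erase _ _ (Finset.mem_univ y)]
      congr 1
      rw [Finset.sum_congr rfl (fun x hx => hoff x y (Finset.ne_of_mem_erase hx)), Finset.sum_const,
        Finset.card_erase_of_mem (Finset.mem_univ y), Finset.card_univ, smul_eq_mul]
    have hn2 : ((Fintype.card X : ℕ) : ZMod 2) = 0 := by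
      rw [← Nat.card_eq_fintype_card, ZMod.natCast_eq_zero_iff]
      exact heven.two_dvd
    have hD : ∀ x y : X, ((Matrix.of fun x y : X => (H694.EB.cn g x y : ZMod 2)) -
        ((Subgroup.centralizer ({g} : Set S)).index : ZMod 2) • (1 : Matrix X X (ZMod 2))) x y = (c : ZMod 2) := by
      intro x y
      rw [Matrix.sub_apply, Matrix.of_apply, Matrix.smul_apply, Matrix.one_apply]
      by_cases hxy : x = y
      · subst hxy
        rw [if_pos rfl, ← hdiag x, smul_eq_mul, mul_one]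
        push_cast [Nat.cast_sub h1.le]
        rw [hn2]
        ring
      · rw [if_neg hxy, hoff x y hxy, smul_zero, sub_zero]
    refine ⟨2, ?_⟩
    ext x y
    rw [pow_two, Matrix.mul_apply, Finset.sum_congr rfl (fun z _ => by rw [hD x z, hD z y]),
      Finset.sum_const, Finset.card_univ, nsmul_eq_mul, hn2, zero_mul, Matrix.zero_apply]

end two

section orb

variable {S : Type u} [Group S]

/-- conjugate subgroups -/
def cj (g : S) (H : Subgroup S) : Subgroup S := H.map (MulAut.conj g).toMonoidHom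

theorem cj_one (H : Subgroup S) : cj 1 H = H := H694.map_conj_one H

theorem cj_mul (g t : S) (H : Subgroup S) : cj (g * t) H = cj g (cj t H) := (map_conj_conj t g H).symm

theorem mem_cj {g x : S} {H : Subgroup S} : x ∈ cj g H ↔ g⁻¹ * x * g ∈ H := by
  constructor
  · rintro ⟨y, hy, rfl⟩
    show g⁻¹ * (g * y * g⁻¹) * g ∈ H
    have : g⁻¹ * (g * y * g⁻¹) * g = y := by group
    rw [this]
    exact hy
  · intro h
    exact ⟨_, h, by
      show g * (g⁻¹ * x * g) * g⁻¹ = x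
      group⟩

theorem cj_self {g : S} {H : Subgroup S} (h : g ∈ H) : cj g H = H := by
  ext x
  rw [mem_cj]
  constructor
  · intro h1
    have h2 := H.mul_mem (H.mul_mem h h1) (H.inv_mem h)
    have : g * (g⁻¹ * x * g) * g⁻¹ = x := by group
    rwa [this] at h2
  · intro h1
    exact H.mul_mem (H.mul_mem (H.inv_mem h) h1) h

/-- `H` is transitive on a class of 12 subgroups of the same order not containing it. -/
theorem trans_of_eleven [Finite S] [IsSimpleGroup S] {𝒴 : Set (Subgroup S)} (hc : Nat.card 𝒴 = 12)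
    (hY : ∀ g : S, ∀ L ∈ 𝒴, cj g L ∈ 𝒴) (hself : ∀ L ∈ 𝒴, ∀ g : S, cj g L = L → g ∈ L)
    {H : Subgroup S} (hHY : H ∉ 𝒴) (hcard : ∀ L ∈ 𝒴, Nat.card L = Nat.card H) (htop : ∀ L ∈ 𝒴, L ≠ ⊤)
    {u : S} (hu : orderOf u = 11) (huH : u ∈ H) : ∀ L ∈ 𝒴, ∀ L' ∈ 𝒴, ∃ h ∈ H, cj h L = L' := by
  classical
  -- `u` does not fix `𝒴`
  have hmove : ∃ L ∈ 𝒴, cj u L ≠ L := by
    by_contra hcon
    push Not at hcon
    have huL : ∀ L ∈ 𝒴, u ∈ L := fun L hL => hself L hL u (hcon L hL)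
    let K : Subgroup S := ⨅ L : 𝒴, (L : Subgroup S)
    have hK : K.Normal := by
      constructor
      intro k hk g
      rw [Subgroup.mem_iInf] at hk ⊢
      rintro ⟨L, hL⟩
      have h1 := hk ⟨cj g⁻¹ L, hY _ _ hL⟩
      have h2 := mem_cj.1 h1
      rwa [inv_inv] at h2
    have huK : u ∈ K := by
      rw [Subgroup.mem_iInf]
      exact fun L => huL L L.2
    rcases hK.eq_bot_or_eq_top with h | h
    · rw [h, Subgroup.mem_bot] at huK
      rw [huK, orderOf_one] at hu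
      omega
    · have hne : Nonempty 𝒴 := by
        by_contra hne
        rw [not_nonempty_iff] at hne
        rw [Nat.card_of_isEmpty] at hc
        omega
      obtain ⟨L⟩ := hne
      apply htop L L.2
      rw [eq_top_iff, ← h]
      exact iInf_le _ L
  obtain ⟨L₁, hL₁, hne₁⟩ := hmove
  let O : Set (Subgroup S) := Set.range fun i : ZMod 11 => cj (u ^ i.val) L₁
  have hOY : O ⊆ 𝒴 := by
    rintro _ ⟨i, rfl⟩
    exact hY _ _ hL₁
  have hmod : ∀ m : ℕ, u ^ ((m : ZMod 11).val) = u ^ m := by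
    intro m
    rw [ZMod.val_natCast, ← hu, pow_mod_orderOf]
  have hOm : ∀ m : ℕ, cj (u ^ m) L₁ ∈ O := fun m => ⟨(m : ZMod 11), by
    show cj (u ^ ((m : ZMod 11).val)) L₁ = _
    rw [hmod]⟩
  -- 11 different conjugates
  have hstab : ∀ m : ℕ, cj (u ^ m) L₁ = L₁ → 11 ∣ m := by
    intro m hm
    by_contra hnd
    apply hne₁
    have hcop : Nat.Coprime m 11 := ((Nat.Prime.coprime_iff_not_dvd (by norm_num)).2 hnd).symm
    have hfix : ∀ j : ℕ, cj ((u ^ m) ^ j) L₁ = L₁ := by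
      intro j
      induction j with
      | zero => rw [pow_zero, cj_one]
      | succ j ih => rw [pow_succ, cj_mul, hm, ih]
    obtain ⟨j, hj⟩ := exists_pow_eq_self_of_coprime (x := u) (n := m) (by rw [hu]; exact hcop)
    have h1 := hfix j
    rwa [hj] at h1
  have hinj : Function.Injective fun i : ZMod 11 => cj (u ^ i.val) L₁ := by
    have key : ∀ a b : ℕ, a ≤ b → b < 11 → cj (u ^ a) L₁ = cj (u ^ b) L₁ → a = b := by
      intro a b hab hb h
      have h1 : cj (u ^ (b - a)) L₁ = L₁ := by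
        have h2 : u ^ b = u ^ a * u ^ (b - a) := by rw [← pow_add]; congr 1; omega
        rw [h2, cj_mul] at h
        have h3 := congrArg (cj (u ^ a)⁻¹) h
        rw [← cj_mul, ← cj_mul, inv_mul_cancel, cj_one, ← cj_mul, one_mul] at h3
        exact h3.symm
      have h2 := hstab _ h1
      omega
    intro i j hij
    apply ZMod.val_injective
    have hi := ZMod.val_lt i
    have hj := ZMod.val_lt j
    rcases le_total i.val j.val with h | h
    · exact key _ _ h hj hij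
    · exact (key _ _ h hi hij.symm).symm
  have hOc : O.ncard = 11 := by
    rw [← Nat.card_coe_set_eq, Nat.card_range_of_injective hinj, Nat.card_zmod]
  have hfin : 𝒴.Finite := Set.toFinite _
  have hYc : 𝒴.ncard = 12 := by rw [← Nat.card_coe_set_eq, hc]
  have hdc : (𝒴 \ O).ncard = 1 := by
    rw [Set.ncard_sdiff hOY, hYc, hOc]
  obtain ⟨L₀, hL₀⟩ := Set.ncard_eq_one.1 hdc
  have hL₀' : L₀ ∈ 𝒴 \ O := by
    rw [hL₀]
    exact Set.mem_singleton _
  have hcases : ∀ L ∈ 𝒴, L = L₀ ∨ L ∈ O := by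
    intro L hL
    by_cases h : L ∈ O
    · exact Or.inr h
    · left
      have h1 : L ∈ 𝒴 \ O := ⟨hL, h⟩
      rw [hL₀] at h1
      exact h1
  -- `H` moves `L₀`
  obtain ⟨h₀, hh₀, hmv⟩ : ∃ h ∈ H, cj h L₀ ≠ L₀ := by
    by_contra hcon
    push Not at hcon
    have h1 : H ≤ L₀ := fun h hh => hself L₀ hL₀'.1 h (hcon h hh)
    have h2 : H = L₀ := Subgroup.eq_of_le_of_card_ge h1 (hcard L₀ hL₀'.1).le
    exact hHY (h2 ▸ hL₀'.1)
  -- everything is in the orbit of `L₁`
  have hO : ∀ L ∈ O, ∃ h ∈ H, cj h L₁ = L := by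
    rintro _ ⟨i, rfl⟩
    exact ⟨u ^ i.val, H.pow_mem huH _, rfl⟩
  have hall : ∀ L ∈ 𝒴, ∃ h ∈ H, cj h L₁ = L := by
    intro L hL
    rcases hcases L hL with rfl | h
    · rcases hcases _ (hY h₀ _ hL) with h1 | h1
      · exact (hmv h1).elim
      · obtain ⟨h, hh, h2⟩ := hO _ h1
        refine ⟨h₀⁻¹ * h, H.mul_mem (H.inv_mem hh₀) hh, ?_⟩
        rw [cj_mul, h2, ← cj_mul, inv_mul_cancel, cj_one]
    · exact hO L h
  intro L hL L' hL'
  obtain ⟨h, hh, h1⟩ := hall L hL
  obtain ⟨h', hh', h1'⟩ := hall L' hL'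
  refine ⟨h' * h⁻¹, H.mul_mem hh' (H.inv_mem hh), ?_⟩
  rw [cj_mul, ← h1, ← cj_mul h⁻¹ h, inv_mul_cancel, cj_one, h1']

/-- one orbit on pairs -/
theorem card_pairs_one {𝒳 𝒴 : Set (Subgroup S)} (hX : 𝒳.Nonempty) (hYn : 𝒴.Nonempty)
    (htr : ∀ H ∈ 𝒳, ∀ H' ∈ 𝒳, ∃ g : S, cj g H = H') (hY : ∀ g : S, ∀ L ∈ 𝒴, cj g L ∈ 𝒴)
    (h : ∀ H ∈ 𝒳, ∀ L ∈ 𝒴, ∀ L' ∈ 𝒴, ∃ h ∈ H, cj h L = L') :
    Nat.card (Quotient (pairRel 𝒳 𝒴)) = 1 := by
  obtain ⟨H₀, hH₀⟩ := hX
  obtain ⟨L₀, hL₀⟩ := hYn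
  rw [Nat.card_eq_one_iff_unique]
  refine ⟨⟨?_⟩, ⟨Quotient.mk _ (⟨H₀, hH₀⟩, ⟨L₀, hL₀⟩)⟩⟩
  intro a b
  induction a using Quotient.inductionOn with
  | _ a =>
  induction b using Quotient.inductionOn with
  | _ b =>
  apply Quotient.sound
  obtain ⟨⟨H, hH⟩, ⟨L, hL⟩⟩ := a
  obtain ⟨⟨H', hH'⟩, ⟨L', hL'⟩⟩ := b
  obtain ⟨g, hg⟩ := htr H hH H' hH'
  obtain ⟨t, ht, ht'⟩ := h H' hH' (cj g L) (hY g L hL) L' hL'
  refine ⟨t * g, ?_, ?_⟩
  · show cj (t * g) H = H'
    rw [cj_mul, hg, cj_self ht]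
  · show cj (t * g) L = L'
    rw [cj_mul, ht']

/-- two orbits on pairs -/
theorem card_pairs_two {𝒳 : Set (Subgroup S)} {H₀ K₀ : Subgroup S} (hH₀ : H₀ ∈ 𝒳) (hK₀ : K₀ ∈ 𝒳)
    (hne : H₀ ≠ K₀)
    (htr : ∀ H ∈ 𝒳, ∀ K ∈ 𝒳, H ≠ K → ∀ H' ∈ 𝒳, ∀ K' ∈ 𝒳, H' ≠ K' → ∃ g : S, cj g H = H' ∧ cj g K = K') :
    Nat.card (Quotient (pairRel 𝒳 𝒳)) = 2 := by
  rw [Nat.card_eq_two_iff]
  refine ⟨Quotient.mk _ (⟨H₀, hH₀⟩, ⟨H₀, hH₀⟩), Quotient.mk _ (⟨H₀, hH₀⟩, ⟨K₀, hK₀⟩), ?_, ?_⟩
  · intro h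
    obtain ⟨g, h1, h2⟩ := Quotient.exact h
    exact hne (h1.symm.trans h2)
  · rw [Set.eq_univ_iff_forall]
    intro a
    induction a using Quotient.inductionOn with
    | _ a =>
    obtain ⟨⟨H, hH⟩, ⟨K, hK⟩⟩ := a
    by_cases h : H = K
    · left
      subst h
      apply Quotient.sound
      by_cases h' : H = H₀
      · subst h'
        exact ⟨1, cj_one H, cj_one H⟩
      · obtain ⟨g, h1, -⟩ := htr H hH H₀ hH₀ h' H₀ hH₀ K₀ hK₀ hne
        exact ⟨g, h1, h1⟩
    · right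
      apply Quotient.sound
      obtain ⟨g, h1, h2⟩ := htr H hH K hK h H₀ hH₀ K₀ hK₀ hne
      exact ⟨g, h1, h2⟩

end orb

theorem card_stab {S : Type*} [Group S] [Finite S] {X : Type*} [MulAction S X] [Finite X]
    (h1 : MulAction.IsPretransitive S X) (x : X) :
    Nat.card (MulAction.stabilizer S x) * Nat.card X = Nat.card S := by
  have h2 := MulAction.index_stabilizer_of_transitive S x
  rw [← h2]
  exact Subgroup.card_mul_index _

/-- **`M12` normal of 2-power index.** -/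
theorem concl_twelve {G : Type u} [Group G] [Fintype G] {M : Ideal AlgInt} (hM : IsPModular 2 M)
    (N : Subgroup G) [N.Normal] [Fintype N] (hidx : ∃ j : ℕ, N.index = 2 ^ j) {X : Type v} [MulAction N X]
    [Finite X] (h4 : MulAction.IsMultiplyPretransitive N X 4) (hX : Nat.card X = 12) [IsSimpleGroup N]
    (hN : Nat.card N = 95040) (hout : (Inn N).index = 2) {k : ℕ} (hk : IsK G k) : Concl M G N k := by
  classical
  have h2 : MulAction.IsMultiplyPretransitive N X 2 :=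
    MulAction.isMultiplyPretransitive_of_le (n := 4) (by norm_num) (by omega)
  have h1' : MulAction.IsMultiplyPretransitive N X 1 :=
    MulAction.isMultiplyPretransitive_of_le (n := 4) (by norm_num) (by omega)
  have h1 : MulAction.IsPretransitive N X := by
    rw [← MulAction.is_one_pretransitive_iff]
    exact h1'
  by_cases hst : ∀ g : G, ∀ H ∈ stabs N X, cmap N g H ∈ stabs N X
  · exact concl_of_stabs hM N h4 (by omega) (by rw [hX]; decide) hst hk
  set 𝒳 : Set (Subgroup N) := stabs N X with h𝒳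
  have hst' := hst
  push Not at hst'
  obtain ⟨g₀, H₁, hH₁, hH₁'⟩ := hst'
  set 𝒴 : Set (Subgroup N) := (fun H => cmap N g₀ H) '' 𝒳 with h𝒴
  have hcm : ∀ (n : N) (H : Subgroup N), cmap N (n : G) H = cj n H := fun n H => cmap_coe N n H
  have hXN : ∀ g : N, ∀ H ∈ 𝒳, cj g H ∈ 𝒳 := fun g H hH => stabs_conj g H hH
  -- transitivity
  have htr : ∀ H ∈ 𝒳, ∀ H' ∈ 𝒳, ∃ g : N, cj g H = H' := by
    rintro _ ⟨x, rfl⟩ _ ⟨y, rfl⟩
    obtain ⟨g, hg⟩ := MulAction.exists_smul_eq N x y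
    refine ⟨g, ?_⟩
    show _ = MulAction.stabilizer N y
    rw [← hg]
    exact (MulAction.stabilizer_smul_eq_stabilizer_map_conj g x).symm
  have hself : ∀ H ∈ 𝒳, ∀ g : N, cj g H = H → g ∈ H := by
    rintro _ ⟨x, rfl⟩ g hg
    have h3 : MulAction.stabilizer N (g • x) = MulAction.stabilizer N x := by
      rw [MulAction.stabilizer_smul_eq_stabilizer_map_conj]
      exact hg
    exact stab_inj h2 (by omega) h3
  -- moving `N` through `g₀`
  have hswap : ∀ (g : G) (n : N) (H : Subgroup N), cmap N g (cj n H) = cj (MulAut.conjNormal g n) (cmap N g H) := by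
    intro g n H
    rw [← hcm, ← hcm, ← cmap_mul, ← cmap_mul, MulAut.conjNormal_apply]
    congr 1
    group
  have hYN : ∀ g : N, ∀ H ∈ 𝒴, cj g H ∈ 𝒴 := by
    rintro g _ ⟨K, hK, rfl⟩
    refine ⟨cj (MulAut.conjNormal g₀⁻¹ g) K, hXN _ _ hK, ?_⟩
    show cmap N g₀ (cj _ K) = cj g (cmap N g₀ K)
    rw [hswap]
    congr 1
    apply Subtype.ext
    rw [MulAut.conjNormal_apply, MulAut.conjNormal_apply]
    group
  -- inner and outer elements
  have hinn : ∀ g : G, (MulAut.conjNormal g : MulAut N) ∈ Inn N → ∀ H ∈ 𝒳, cmap N g H ∈ 𝒳 := by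
    rintro g ⟨s, hs⟩ H hH
    have h3 : cmap N g H = cj s H := by
      rw [cmap, ← hs]
      rfl
    rw [h3]
    exact hXN s H hH
  have hg₀ : (MulAut.conjNormal g₀ : MulAut N) ∉ Inn N := fun h => hH₁' (hinn g₀ h H₁ hH₁)
  have hα : ∀ g : G, ((∀ H ∈ 𝒳, cmap N g H ∈ 𝒳) ∧ (∀ H ∈ 𝒴, cmap N g H ∈ 𝒴)) ∨
      ((∀ H ∈ 𝒳, cmap N g H ∈ 𝒴) ∧ (∀ H ∈ 𝒴, cmap N g H ∈ 𝒳)) := by
    intro g
    by_cases hg : (MulAut.conjNormal g : MulAut N) ∈ Inn N
    · left
      refine ⟨hinn g hg, ?_⟩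
      obtain ⟨s, hs⟩ := hg
      intro H hH
      have h3 : cmap N g H = cj s H := by
        rw [cmap, ← hs]
        rfl
      rw [h3]
      exact hYN s H hH
    · right
      constructor
      · intro H hH
        refine ⟨cmap N (g₀⁻¹ * g) H, hinn _ ?_ H hH, ?_⟩
        · rw [map_mul, Subgroup.mul_mem_iff_of_index_two hout, map_inv, inv_mem_iff]
          exact ⟨fun h => (hg₀ h).elim, fun h => (hg h).elim⟩
        · show cmap N g₀ (cmap N (g₀⁻¹ * g) H) = _
          rw [← cmap_mul, mul_inv_cancel_left]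
      · rintro _ ⟨K, hK, rfl⟩
        show cmap N g (cmap N g₀ K) ∈ 𝒳
        rw [← cmap_mul]
        refine hinn _ ?_ K hK
        rw [map_mul, Subgroup.mul_mem_iff_of_index_two hout]
        exact ⟨fun h => (hg h).elim, fun h => (hg₀ h).elim⟩
  -- disjoint
  have hdis : Disjoint 𝒳 𝒴 := by
    rw [Set.disjoint_left]
    rintro _ h3 ⟨K, hK, rfl⟩
    obtain ⟨n, hn⟩ := htr K hK H₁ hH₁
    apply hH₁'
    rw [← hn, hswap]
    exact hXN _ _ h3
  -- the size of the classes
  have hXc : Nat.card 𝒳 = 12 := by rw [← hX]; exact (Nat.card_congr (stabEquiv h2 (by omega))).symm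
  have hYc : Nat.card 𝒴 = 12 := by
    rw [← hXc]
    refine Nat.card_image_of_injective (f := fun H => cmap N g₀ H) ?_ 𝒳
    intro H K h
    have h3 := congrArg (cmap N g₀⁻¹) (show cmap N g₀ H = cmap N g₀ K from h)
    rwa [← cmap_mul, ← cmap_mul, inv_mul_cancel, cmap_one, cmap_one] at h3
  have hcH : ∀ H ∈ 𝒳, Nat.card H = 7920 := by
    rintro _ ⟨x, rfl⟩
    have h3 := card_stab h1 x
    rw [hX, hN] at h3
    show Nat.card (MulAction.stabilizer N x) = 7920
    omega
  have hcL : ∀ L ∈ 𝒴, Nat.card L = 7920 := by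
    rintro _ ⟨K, hK, rfl⟩
    rw [← hcH K hK]
    exact (Nat.card_congr (K.equivMapOfInjective _ (MulEquiv.injective _)).toEquiv).symm
  have hselfY : ∀ L ∈ 𝒴, ∀ g : N, cj g L = L → g ∈ L := by
    rintro _ ⟨K, hK, rfl⟩ g hg
    have h3 : cj (MulAut.conjNormal g₀⁻¹ g) K = K := by
      have h4 := congrArg (cmap N g₀⁻¹) hg
      rw [hswap] at h4
      simpa only [← cmap_mul, inv_mul_cancel, cmap_one] using h4
    have h4 := hself K hK _ h3
    refine ⟨_, h4, ?_⟩
    show MulAut.conjNormal g₀ (MulAut.conjNormal g₀⁻¹ g) = g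
    apply Subtype.ext
    rw [MulAut.conjNormal_apply, MulAut.conjNormal_apply]
    group
  have htop : ∀ L ∈ 𝒴, L ≠ ⊤ := by
    rintro L hL rfl
    have h3 := hcL _ hL
    rw [Subgroup.card_top, hN] at h3
    omega
  have hXne : 𝒳.Nonempty := ⟨H₁, hH₁⟩
  have hYne : 𝒴.Nonempty := ⟨_, H₁, hH₁, rfl⟩
  have hone : Nat.card (Quotient (pairRel 𝒳 𝒴)) = 1 := by
    refine card_pairs_one hXne hYne htr hYN fun H hH => ?_
    haveI : Fact (Nat.Prime 11) := ⟨by norm_num⟩
    obtain ⟨u, hu⟩ := exists_prime_orderOf_dvd_card' 11 (G := H) (by rw [hcH H hH]; norm_num)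
    refine trans_of_eleven hYc hYN hselfY (fun h => Set.disjoint_left.1 hdis hH h) ?_ htop
      (u := (u : N)) (by rw [Subgroup.orderOf_coe, hu]) u.2
    intro L hL
    rw [hcL L hL, hcH H hH]
  have htwo : Nat.card (Quotient (pairRel 𝒳 𝒳)) = 2 := by
    obtain ⟨x, rfl⟩ := hH₁
    haveI : Fintype X := Fintype.ofFinite X
    obtain ⟨y, hy⟩ : ∃ y : X, y ≠ x := Fintype.exists_ne_of_one_lt_card
      (by rw [← Nat.card_eq_fintype_card]; omega) x
    refine card_pairs_two (H₀ := MulAction.stabilizer N x) (K₀ := MulAction.stabilizer N y) ⟨x, rfl⟩ ⟨y, rfl⟩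
      (fun h => hy (stab_inj h2 (by omega) h).symm) ?_
    rintro _ ⟨a, rfl⟩ _ ⟨b, rfl⟩ hab _ ⟨a', rfl⟩ _ ⟨b', rfl⟩ hab'
    have e1 : a ≠ b := fun h => hab (by rw [h])
    have e2 : a' ≠ b' := fun h => hab' (by rw [h])
    obtain ⟨g, hg1, hg2⟩ := MulAction.is_two_pretransitive_iff.1 h2 e1 e2
    refine ⟨g, ?_, ?_⟩
    · show _ = MulAction.stabilizer N a'
      rw [← hg1]
      exact (MulAction.stabilizer_smul_eq_stabilizer_map_conj g a).symm
    · show _ = MulAction.stabilizer N b'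
      rw [← hg2]
      exact (MulAction.stabilizer_smul_eq_stabilizer_map_conj g b).symm
  refine concl_of_two hM N hidx hk 𝒳 𝒴 hdis hXne hXN hα hst ?_ (by rw [hone, htwo]; decide)
  -- the constituents
  intro φ hφ _
  letI := actS 𝒳 hXN
  have hfin : Finite 𝒳 := Subtype.finite
  have h2X : MulAction.IsMultiplyPretransitive N 𝒳 2 := by
    rw [MulAction.isMultiplyPretransitive_iff]
    intro x y
    obtain ⟨g, hg⟩ := stabs_trans h2 h2 (by omega) x y
    refine ⟨g, ?_⟩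
    ext i : 1
    exact Subtype.ext (hg i)
  refine mem_of_two_trans hM h2X (by rw [hXc]; norm_num) (by rw [hXc]; decide) φ ?_
  intro h0
  have h3 : mu (permS 𝒳) (φ : N → ℂ) = 0 := by
    apply mu_eq
    rw [permS_eq 𝒳 hXN]
    rw [Int.cast_zero]
    exact h0
  rw [h3] at hφ
  exact absurd hφ (by decide)

theorem act_m12 : Act4 Spor.M12 12 := by
  let d : Set GolayPt := (Spor.squareDodecad : Set GolayPt)
  have hd : ∀ g ∈ Spor.M12, ∀ x ∈ d, g x ∈ d := fun g hg x hx =>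
    Cfsg.Agent.CoThreeStd.M12.smul_mem' hg hx
  have hc : Nat.card d = 12 := by
    show Nat.card ↥(Spor.squareDodecad : Set GolayPt) = 12
    rw [Nat.card_coe_set_eq, Set.ncard_coe_finset, card_dod dod_mem]
  letI := actOn Spor.M12 d hd
  have h5 : MulAction.IsMultiplyPretransitive Spor.M12 d 5 := trans_on Spor.M12 d hd 5 fun x y hx hy => by
    obtain ⟨g, hg, -⟩ := Cfsg.Agent.S0384.result _ dod_mem x y hx hy
    exact ⟨((g : M24) : Equiv.Perm GolayPt), ⟨(g : M24).2, g.2⟩, hg⟩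
  exact ⟨d, inferInstance, inferInstance,
    MulAction.isMultiplyPretransitive_of_le (n := 5) (by norm_num) (by rw [hc]; norm_num), hc⟩

/-- the index of the inner automorphisms -/
theorem index_inn_congr {S T : Type*} [Group S] [Group T] (e : S ≃* T) : (Inn S).index = (Inn T).index := by
  have h1 : (Inn T).comap (MulAut.congr e).toMonoidHom = Inn S := by
    ext α
    rw [Subgroup.mem_comap]
    constructor
    · rintro ⟨t, ht⟩
      refine ⟨e.symm t, ?_⟩
      ext x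
      have h1 := DFunLike.congr_fun ht (e x)
      have h2 : t * e x * t⁻¹ = e (α (e.symm (e x))) := h1
      rw [MulEquiv.symm_apply_apply] at h2
      have h3 := congrArg e.symm h2
      rw [MulEquiv.symm_apply_apply, map_mul, map_mul, map_inv, MulEquiv.symm_apply_apply] at h3
      rw [MulAut.conj_apply, h3]
    · rintro ⟨s, rfl⟩
      refine ⟨e s, ?_⟩
      ext x
      show e s * x * (e s)⁻¹ = e (s * e.symm x * s⁻¹)
      rw [map_mul, map_mul, map_inv, MulEquiv.apply_symm_apply]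
  rw [← h1]
  exact Subgroup.index_comap_of_surjective _ (MulEquiv.surjective _)

/-- **Row M12.** -/
theorem m12 {S : Type u} [Group S] (h : Spor.IsoM12 S) : EvenB S := by
  obtain ⟨e⟩ := h
  intro G _ _ N _ _ ⟨f⟩ _ hidx k hk M hM
  let e' : N ≃* Spor.M12 := f.symm.trans e
  obtain ⟨X, hX, hf, h4, hc⟩ := act_m12.congr e'
  letI := hX
  have h12 := Cfsg.Agent.Schreier.MTwelve.isSimpleGroup
  haveI : IsSimpleGroup N := MulEquiv.isSimpleGroup e'
  exact concl_twelve hM N hidx h4 hc (by rw [Nat.card_congr e'.toEquiv, card_M12])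
    (by rw [index_inn_congr e']; exact Cfsg.Agent.S2061.result) hk

end Cfsg.Agent.H273.EB
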