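import Cfsg.Agent.H273.EB.Stab
import Cfsg.Agent.H852.IMMathieu
import Cfsg.Agent.S2060
import Cfsg.Agent.S2063
import Cfsg.Agent.S2064

/-!
# TEAM EB: rows M11, M23, M24 (helper273)
-/

set_option autoImplicit false
set_option linter.unusedSectionVars false
set_option linter.style.haveILetI false

open Cfsg

namespace Cfsg.Agent.H273.EB

open Cfsg.Agent.H610.EB Cfsg.Agent.H694 Cfsg.Agent.H684.EB Cfsg.Agent.H852.IMMathieu

universe u v

/-- a 4-transitive action on `n` points -/
def Act4 (T : Type*) [Group T] (n : ℕ) : Prop :=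
  ∃ (X : Type) (_ : MulAction T X) (_ : Finite X), MulAction.IsMultiplyPretransitive T X 4 ∧ Nat.card X = n

theorem trans_comp {S T : Type*} [Group S] [Group T] (e : S ≃* T) {X : Type*} [MulAction T X] {k : ℕ}
    (h : MulAction.IsMultiplyPretransitive T X k) :
    letI := MulAction.compHom X (e : S →* T)
    MulAction.IsMultiplyPretransitive S X k := by
  letI := MulAction.compHom X (e : S →* T)
  rw [MulAction.isMultiplyPretransitive_iff] at h ⊢
  intro x y
  obtain ⟨g, hg⟩ := h (x := x) (y := y)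
  refine ⟨e.symm g, ?_⟩
  ext i : 1
  show e (e.symm g) • x i = y i
  rw [MulEquiv.apply_symm_apply]
  exact DFunLike.congr_fun hg i

theorem Act4.congr {S T : Type*} [Group S] [Group T] (e : S ≃* T) {n : ℕ} (h : Act4 T n) : Act4 S n := by
  obtain ⟨X, hX, hf, h4, hn⟩ := h
  letI := hX
  exact ⟨X, MulAction.compHom X (e : S →* T), hf, trans_comp e h4, hn⟩

theorem inner_of_out {S : Type*} [Group S] (h : Nat.card (Cfsg.Out S) = 1) (α : MulAut S) :
    ∃ s, α = MulAut.conj s := by
  have h1 : (Inn S).index = 1 := h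
  rw [Subgroup.index_eq_one] at h1
  have h2 : α ∈ Inn S := by
    rw [h1]
    exact Subgroup.mem_top α
  obtain ⟨s, hs⟩ := h2
  exact ⟨s, hs.symm⟩

/-- all automorphisms are inner -/
def AllInner (S : Type*) [Group S] : Prop := ∀ α : MulAut S, ∃ s, α = MulAut.conj s

theorem AllInner.congr {S T : Type*} [Group S] [Group T] (e : S ≃* T) (h : AllInner T) : AllInner S := by
  intro α
  obtain ⟨t, ht⟩ := h ((e.symm.trans α).trans e)
  refine ⟨e.symm t, ?_⟩
  ext x
  have h1 := DFunLike.congr_fun ht (e x)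
  have h2 : e (α (e.symm (e x))) = t * e x * t⁻¹ := h1
  rw [MulEquiv.symm_apply_apply] at h2
  have h3 := congrArg e.symm h2
  rw [MulEquiv.symm_apply_apply, map_mul, map_mul, map_inv, MulEquiv.symm_apply_apply] at h3
  rw [h3, MulAut.conj_apply]

/-- **Row: a 4-transitive group without outer automorphisms.** -/
theorem evenB_of_act4 {S : Type u} [Group S] {n : ℕ} (hS : Act4 S n) (hn : 4 ≤ n)
    (heven : Even (n * (n - 3) / 2)) (hout : AllInner S) : EvenB S := by
  intro G _ _ N _ _ ⟨e⟩ _ _ k hk M hM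
  obtain ⟨X, hX, hf, h4, hc⟩ := hS.congr e.symm
  letI := hX
  refine concl_of_stabs hM N h4 (by rw [hc]; exact hn) (by rw [hc]; exact heven) ?_ hk
  intro g H hH
  obtain ⟨s, hs⟩ := (hout.congr e.symm) (MulAut.conjNormal g : MulAut N)
  rw [cmap, hs]
  exact stabs_conj s H hH

theorem act_m11 : Act4 Spor.M11 11 := by
  let d : Set GolayPt := (Spor.squareDodecad : Set GolayPt) \ {some 0}
  have hd : ∀ g ∈ Spor.M11, ∀ x ∈ d, g x ∈ d := by
    intro g hg x hx
    refine ⟨Cfsg.Agent.CoThreeStd.M12.smul_mem' hg.1 hx.1, fun h1 => hx.2 ?_⟩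
    have h2 : g (some 0) = some 0 := hg.2
    exact g.injective ((show g x = some 0 from h1).trans h2.symm)
  refine ⟨d, actOn Spor.M11 d hd, inferInstance, trans_on Spor.M11 d hd 4 ?_, ?_⟩
  · intro x y hx hy
    have hinj : ∀ z : Fin 4 ↪ GolayPt, (∀ i, z i ∈ (Spor.squareDodecad : Set GolayPt) \ {some 0}) →
        Function.Injective (Fin.cons (some 0) z : Fin 5 → GolayPt) := by
      intro z hz
      rw [Fin.cons_injective_iff]
      refine ⟨?_, z.injective⟩
      rintro ⟨i, hi⟩
      exact (hz i).2 hi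
    have hmem : ∀ z : Fin 4 ↪ GolayPt, (∀ i, z i ∈ (Spor.squareDodecad : Set GolayPt) \ {some 0}) →
        ∀ i, (Fin.cons (some 0) z : Fin 5 → GolayPt) i ∈ Spor.squareDodecad := by
      intro z hz i
      refine Fin.cases ?_ (fun j => ?_) i
      · exact zero_mem
      · exact (hz j).1
    obtain ⟨g, hg, -⟩ := Cfsg.Agent.S0384.result _ dod_mem ⟨_, hinj x hx⟩ ⟨_, hinj y hy⟩ (hmem x hx) (hmem y hy)
    exact ⟨((g : M24) : Equiv.Perm GolayPt), ⟨⟨(g : M24).2, g.2⟩, hg 0⟩, fun i => hg i.succ⟩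
  · show Nat.card ↥((Spor.squareDodecad : Set GolayPt) \ {some 0}) = 11
    rw [Nat.card_coe_set_eq, Set.ncard_sdiff_singleton_of_mem (by exact zero_mem), Set.ncard_coe_finset,
      card_dod dod_mem]

theorem act_m23 : Act4 Spor.M23 23 := by
  let d : Set GolayPt := {x | x ≠ none}
  have hd : ∀ g ∈ Spor.M23, ∀ x ∈ d, g x ∈ d := by
    intro g hg x hx h1
    have h2 : g none = none := hg.2
    exact hx (g.injective (h1.trans h2.symm))
  refine ⟨d, actOn Spor.M23 d hd, inferInstance, trans_on Spor.M23 d hd 4 ?_, ?_⟩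
  · intro x y hx hy
    have hinj : ∀ z : Fin 4 ↪ GolayPt, (∀ i, z i ∈ {x : GolayPt | x ≠ none}) →
        Function.Injective (Fin.cons none z : Fin 5 → GolayPt) := by
      intro z hz
      rw [Fin.cons_injective_iff]
      refine ⟨?_, z.injective⟩
      rintro ⟨i, hi⟩
      exact hz i hi
    obtain ⟨g, hg⟩ := Cfsg.Agent.SporadicStructure.M23Index253.exists_map Cfsg.Agent.S0366.result le_rfl _ _
      (hinj x hx) (hinj y hy)
    exact ⟨(g : Equiv.Perm GolayPt), ⟨g.2, hg 0⟩, fun i => hg i.succ⟩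
  · have h1 : ({x | x ≠ none} : Set GolayPt) = Set.univ \ {none} := by
      ext x
      simp
    show Nat.card ↥({x | x ≠ none} : Set GolayPt) = 23
    rw [Nat.card_coe_set_eq, h1, Set.ncard_sdiff_singleton_of_mem (Set.mem_univ _), Set.ncard_univ,
      Nat.card_eq_fintype_card]
    decide

theorem act_m24 : Act4 M24 24 := by
  refine ⟨GolayPt, inferInstance, inferInstance, ?_, ?_⟩
  · have h5 : MulAction.IsMultiplyPretransitive M24 GolayPt 5 := Cfsg.Agent.S0366.result
    exact MulAction.isMultiplyPretransitive_of_le (n := 5) (by norm_num) (by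
      rw [Nat.card_eq_fintype_card]
      decide)
  · rw [Nat.card_eq_fintype_card]
    decide

/-- **Row M11.** -/
theorem m11 {S : Type u} [Group S] (h : Spor.IsoM11 S) : EvenB S := by
  obtain ⟨e⟩ := h
  exact evenB_of_act4 (act_m11.congr e) (by norm_num) (by decide)
    (AllInner.congr e (inner_of_out Cfsg.Agent.S2060.result))

/-- **Row M23.** -/
theorem m23 {S : Type u} [Group S] (h : Spor.IsoM23 S) : EvenB S := by
  obtain ⟨e⟩ := h
  exact evenB_of_act4 (act_m23.congr e) (by norm_num) (by decide)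
    (AllInner.congr e (inner_of_out Cfsg.Agent.S2063.result))

/-- **Row M24.** -/
theorem m24 {S : Type u} [Group S] (h : Spor.IsoM24 S) : EvenB S := by
  obtain ⟨e⟩ := h
  exact evenB_of_act4 (act_m24.congr e) (by norm_num) (by decide)
    (AllInner.congr e (inner_of_out Cfsg.Agent.S2064.result))

end Cfsg.Agent.H273.EB
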